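import Mathlib.AlgebraicGeometry.Morphisms.Flat
import Mathlib.AlgebraicGeometry.Morphisms.QuasiSeparated
import Mathlib.AlgebraicGeometry.ResidueField
import Mathlib.RingTheory.Flat.Basic

/-!
# Sections of a flat base change that vanish on a closed subset
-/

open CategoryTheory CategoryTheory.Limits AlgebraicGeometry TensorProduct

universe u

namespace Groth.Agent.FinFibImage

theorem isIso_desc_of_isPushout {R A B P : CommRingCat.{u}} {f : R ⟶ A} {g : R ⟶ B}
    {a : A ⟶ P} {b : B ⟶ P} (H : IsPushout f g a b) {P' : CommRingCat.{u}} (a' : A ⟶ P')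
    (b' : B ⟶ P') (w : f ≫ a' = g ≫ b') (H' : IsPushout f g a' b') : IsIso (H.desc a' b' w) := by
  have e : H.desc a' b' w = (H.isoIsPushout A B H').hom := H.hom_ext (by simp) (by simp)
  rw [e]
  infer_instance

theorem mono_desc {R A B P : CommRingCat.{u}} {f : R ⟶ A} {g : R ⟶ B}
    {a : A ⟶ P} {b : B ⟶ P} (H : IsPushout f g a b) {P' : CommRingCat.{u}} (a' : A ⟶ P')
    (b' : B ⟶ P') (w : f ≫ a' = g ≫ b') (hm : Mono (pushout.desc a' b' w)) :
    Mono (H.desc a' b' w) := by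
  have e : H.desc a' b' w = H.isoPushout.hom ≫ pushout.desc a' b' w :=
    H.hom_ext (by simp [(pushout.inl_desc a' b' w)]) (by simp [(pushout.inr_desc a' b' w)])
  rw [e]
  infer_instance

/-- `IsPushout` of global sections for a flat base change of a qcqs scheme to an affine. -/
theorem isPushout_appTop {Y' Y T S : Scheme.{u}} {pY : Y' ⟶ Y} {qT : Y' ⟶ T} {g : Y ⟶ S}
    {φ : T ⟶ S} [IsAffine S] [IsAffine T] [Flat φ] [CompactSpace Y] [QuasiSeparatedSpace Y]
    (H : IsPullback pY qT g φ) : IsPushout g.appTop φ.appTop pY.appTop qT.appTop := by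
  have h := (isIso_pushoutSection_iff H (US := ⊤) (UT := ⊤) (UX := ⊤) (UY := ⊤)
    le_top le_top (by simp)).mp
    (isIso_pushoutSection_of_isQuasiSeparated_of_flat_right H _ _ _ (isAffineOpen_top S)
      (isAffineOpen_top T) CompactSpace.isCompact_univ
      ((isQuasiSeparated_univ_iff).mpr inferInstance))
  simpa [Scheme.Hom.appLE, Scheme.Hom.appTop] using! h

theorem mono_pushoutDesc {Y' Y T S : Scheme.{u}} {pY : Y' ⟶ Y} {qT : Y' ⟶ T} {g : Y ⟶ S}
    {φ : T ⟶ S} [IsAffine S] [IsAffine T] [Flat φ] [CompactSpace Y]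
    (H : IsPullback pY qT g φ) :
    Mono (pushout.desc pY.appTop qT.appTop
      (by rw [← Scheme.Hom.comp_appTop, ← Scheme.Hom.comp_appTop, H.w])) := by
  have h := mono_pushoutSection_of_isCompact_of_flat_right H (US := ⊤) (UT := ⊤) (UX := ⊤)
    (UY := ⊤) le_top le_top (by simp) (isAffineOpen_top S)
      (isAffineOpen_top T) CompactSpace.isCompact_univ
  convert! h using 3 <;> simp [Scheme.Hom.appLE, Scheme.Hom.appTop]

theorem exists_mem_of_ker {Y Z S T Y' Z' : Scheme.{u}} [IsAffine S] [IsAffine T]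
    [CompactSpace Y] [QuasiSeparatedSpace Y] [CompactSpace Z]
    {g : Y ⟶ S} {φ : T ⟶ S} [Flat φ] (ι : Z ⟶ Y)
    {pY : Y' ⟶ Y} {qY : Y' ⟶ T} (HY : IsPullback pY qY g φ)
    {pZ : Z' ⟶ Z} {ι' : Z' ⟶ Y'} (HZ : IsPullback pZ ι' ι pY)
    (e : Γ(Y', ⊤)) (he : ι'.appTop e = 0) (y' : Y') (hy : y' ∈ Y'.basicOpen e) :
    ∃ f : Γ(Y, ⊤), ι.appTop f = 0 ∧ pY y' ∈ Y.basicOpen f := by
  have HZ' : IsPullback pZ (ι' ≫ qY) (ι ≫ g) φ := HZ.paste_vert HY
  have hflat : φ.appTop.hom.Flat := by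
    have := φ.flat_appLE (isAffineOpen_top S) (isAffineOpen_top T) le_top
    simpa [Scheme.Hom.appLE, Scheme.Hom.appTop] using! this
  algebraize [φ.appTop.hom, g.appTop.hom, (ι ≫ g).appTop.hom]
  let ia : Γ(Y, ⊤) →ₐ[Γ(S, ⊤)] Γ(Z, ⊤) :=
    { ι.appTop.hom with commutes' := fun r => (by
        change ι.appTop (g.appTop r) = (ι ≫ g).appTop r
        rw [Scheme.Hom.comp_appTop]; rfl) }
  have PY := CommRingCat.isPushout_tensorProduct Γ(S, ⊤) Γ(Y, ⊤) Γ(T, ⊤)
  have PZ := CommRingCat.isPushout_tensorProduct Γ(S, ⊤) Γ(Z, ⊤) Γ(T, ⊤)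
  have wY : g.appTop ≫ pY.appTop = φ.appTop ≫ qY.appTop := by
    rw [← Scheme.Hom.comp_appTop, ← Scheme.Hom.comp_appTop, HY.w]
  have wZ : (ι ≫ g).appTop ≫ pZ.appTop = φ.appTop ≫ (ι' ≫ qY).appTop := by
    rw [← Scheme.Hom.comp_appTop, ← Scheme.Hom.comp_appTop, HZ'.w]
  let dY := PY.desc pY.appTop qY.appTop wY
  let dZ := PZ.desc pZ.appTop (ι' ≫ qY).appTop wZ
  have hdY : ∀ a b, dY (a ⊗ₜ b) = pY.appTop a * qY.appTop b := fun a b => by
    have h1 : dY (a ⊗ₜ 1) = pY.appTop a :=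
      congr($(PY.inl_desc pY.appTop qY.appTop wY).hom a)
    have h2 : dY (1 ⊗ₜ b) = qY.appTop b :=
      congr($(PY.inr_desc pY.appTop qY.appTop wY).hom b)
    rw [show a ⊗ₜ[Γ(S, ⊤)] b = (a ⊗ₜ 1) * (1 ⊗ₜ b) by simp, ← h1, ← h2]
    exact map_mul dY.hom _ _
  have hdZ : ∀ a b, dZ (a ⊗ₜ b) = pZ.appTop a * (ι' ≫ qY).appTop b := fun a b => by
    have h1 : dZ (a ⊗ₜ 1) = pZ.appTop a :=
      congr($(PZ.inl_desc pZ.appTop (ι' ≫ qY).appTop wZ).hom a)
    have h2 : dZ (1 ⊗ₜ b) = (ι' ≫ qY).appTop b :=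
      congr($(PZ.inr_desc pZ.appTop (ι' ≫ qY).appTop wZ).hom b)
    rw [show a ⊗ₜ[Γ(S, ⊤)] b = (a ⊗ₜ 1) * (1 ⊗ₜ b) by simp, ← h1, ← h2]
    exact map_mul dZ.hom _ _
  have : IsIso dY := isIso_desc_of_isPushout PY _ _ wY (isPushout_appTop HY)
  have : Mono dZ := mono_desc PZ _ _ wZ (mono_pushoutDesc HZ')
  have hsurj : Function.Surjective dY := (ConcreteCategory.bijective_of_isIso dY).2
  have hinj : Function.Injective dZ := ConcreteCategory.injective_of_mono_of_preservesPullback dZ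
  let F := LinearMap.rTensor Γ(T, ⊤) ia.toLinearMap
  have hnat : ∀ x, dZ (F x) = ι'.appTop (dY x) := by
    intro x
    induction x using TensorProduct.induction_on with
    | zero => erw [map_zero, map_zero, map_zero]
    | tmul a b =>
      refine (hdZ (ι.appTop a) b).trans ?_
      rw [hdY, map_mul, Scheme.Hom.comp_appTop]
      congr 1
      exact congr($((Scheme.Hom.comp_appTop pZ ι).symm.trans ((congrArg Scheme.Hom.appTop HZ.w).trans
        (Scheme.Hom.comp_appTop ι' pY))).hom a)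
    | add x y hx hy => erw [map_add, map_add, hx, hy, map_add, map_add]
  obtain ⟨x, rfl⟩ := hsurj e
  have hFx : F x = 0 := hinj (by rw [hnat, he]; exact (map_zero dZ.hom).symm)
  have hex := Module.Flat.rTensor_exact (R := Γ(S, ⊤)) Γ(T, ⊤)
    (f := (LinearMap.ker ia.toLinearMap).subtype) (g := ia.toLinearMap)
    (LinearMap.exact_subtype_ker_map _)
  obtain ⟨z, rfl⟩ := (hex x).mp hFx
  by_contra hc
  push Not at hc
  apply (Scheme.evaluation_ne_zero_iff_mem_basicOpen _ _ (Set.mem_univ y') _).mpr hy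
  clear he hy hnat hFx
  induction z using TensorProduct.induction_on with
  | zero => rw [map_zero]; erw [map_zero, map_zero]
  | add a b ha hb => rw [map_add]; erw [map_add, map_add, ha, hb, add_zero]
  | tmul k b =>
    rw [LinearMap.rTensor_tmul, hdY, map_mul]
    refine mul_eq_zero_of_left ?_ _
    rw [Scheme.evaluation_eq_zero_iff_notMem_basicOpen]
    have := hc k.1 k.2
    intro hm
    apply this
    rw [← Scheme.preimage_basicOpen_top] at hm
    exact hm

end Groth.Agent.FinFibImage
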