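import Groth.Agent.FinFibImage.Idem
import Groth.Agent.FinFibImage.BaseChange
import Mathlib.AlgebraicGeometry.Morphisms.Integral
import Mathlib.AlgebraicGeometry.Morphisms.Proper
import Mathlib.AlgebraicGeometry.IdealSheaf.Subscheme
import Mathlib.RingTheory.Flat.Localization
import Mathlib.RingTheory.Flat.FaithfullyFlat.Algebra
import Mathlib.RingTheory.Ideal.GoingUp

/-!
# Images of schemes that are integral with finite fibres over the base

If `g : Y ⟶ S` is separated and `π : X ⟶ Y` is surjective with `π ≫ g` integral with finite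
fibres, then `g` is integral.
-/

open CategoryTheory CategoryTheory.Limits AlgebraicGeometry Opposite TopologicalSpace

universe u

namespace Groth.Agent.FinFibImage

/-- idempotent cutting out a clopen subset -/
theorem exists_idem_of_isClopen {Y : Scheme.{u}} (W : Set Y) (hW : IsClopen W) :
    ∃ e : Γ(Y, ⊤), IsIdempotentElem e ∧ (Y.basicOpen e : Set Y) = W := by
  classical
  let U : Bool → Y.Opens := fun b => bif b then ⟨W, hW.2⟩ else ⟨Wᶜ, hW.1.1⟩
  let sf : ∀ b, Γ(Y, U b) := fun b => bif b then 1 else 0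
  have hsub : ∀ b c, b ≠ c → Subsingleton Γ(Y, U b ⊓ U c) := fun b c h => by
    have he : U b ⊓ U c = ⊥ := by
      ext x
      cases b <;> cases c <;> simp_all [U]
    rw [he]
    exact inferInstance
  have hcov : (⊤ : Y.Opens) ≤ iSup U := fun x _ => by
    by_cases h : x ∈ W
    · exact TopologicalSpace.Opens.mem_iSup.mpr ⟨true, h⟩
    · exact TopologicalSpace.Opens.mem_iSup.mpr ⟨false, h⟩
  obtain ⟨e, he, hu⟩ := Y.sheaf.existsUnique_gluing' U ⊤ (fun b => homOfLE le_top) hcov sf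
    (fun b c => by
      rcases eq_or_ne b c with rfl | h
      · rfl
      · exact @Subsingleton.elim _ (hsub b c h) _ _)
  have hid : e * e = e := hu (e * e) fun b => by
    refine (map_mul (Y.sheaf.1.map _).hom e e).trans ?_
    erw [he b]
    cases b
    exacts [zero_mul _, one_mul _]
  refine ⟨e, hid, ?_⟩
  ext x
  have key : ∀ b, x ∈ U b → (x ∈ Y.basicOpen e ↔ x ∈ Y.basicOpen (sf b)) := fun b hb => by
    rw [← he b]
    show _ ↔ x ∈ Y.basicOpen (Y.presheaf.map _ e)
    rw [Scheme.basicOpen_res]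
    exact ⟨fun h => ⟨hb, h⟩, fun h => h.2⟩
  by_cases h : x ∈ W
  · refine ⟨fun _ => h, fun _ => (key true h).mpr ?_⟩
    simp only [sf, cond_true]
    rw [Scheme.basicOpen_of_isUnit _ isUnit_one]
    exact h
  · refine ⟨fun h' => ?_, fun h' => absurd h' h⟩
    have := (key false h).mp h'
    simp [sf] at this

theorem mem_basicOpen_iff_isoSpec {X : Scheme.{u}} [IsAffine X] (x : X) (a : Γ(X, ⊤)) :
    x ∈ X.basicOpen a ↔ a ∉ (X.isoSpec.hom x).asIdeal := by
  rw [← Scheme.toSpecΓ_preimage_basicOpen]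
  rfl

theorem isoSpec_comap {X S : Scheme.{u}} [IsAffine X] [IsAffine S] (q : X ⟶ S) (x : X) :
    (X.isoSpec.hom x).asIdeal.comap q.appTop.hom = (S.isoSpec.hom (q x)).asIdeal :=
  (congr_arg PrimeSpectrum.asIdeal congr(($(Scheme.toSpecΓ_naturality q)).base x)).symm

theorem isoSpec_inv_appTop' (S : Scheme.{u}) [IsAffine S] :
    S.isoSpec.inv.appTop = (Scheme.ΓSpecIso Γ(S, ⊤)).inv := by
  rw [← Iso.comp_hom_eq_id, ← Scheme.toSpecΓ_appTop, ← Scheme.Hom.comp_appTop,
    show S.toSpecΓ = S.isoSpec.hom from rfl, S.isoSpec.hom_inv_id]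
  rfl

theorem exists_separating {X S : Scheme.{u}} [IsAffine S] (q : X ⟶ S) [IsIntegralHom q] (p : S)
    (F : Set X) (hF : F.Finite) (hFp : ∀ x ∈ F, q x = p) (G : Set X) :
    ∃ a : Γ(X, ⊤), ∀ x ∈ F, (x ∈ X.basicOpen a ↔ x ∈ G) := by
  classical
  have : IsAffine X := isAffine_of_isAffineHom q
  let P : X → Ideal Γ(X, ⊤) := fun x => (X.isoSpec.hom x).asIdeal
  let I : Ideal Γ(X, ⊤) := (hF.toFinset.filter fun x => x ∉ G).inf P
  have hne : ¬ ((I : Set Γ(X, ⊤)) ⊆ ⋃ x ∈ (↑(hF.toFinset.filter fun x => x ∈ G) : Set X), P x) := by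
    by_cases hF0 : (hF.toFinset.filter fun x => x ∈ G) = ∅
    · rw [hF0]
      intro h
      have := h (zero_mem I)
      simp at this
    obtain ⟨x₀, hx₀⟩ := Finset.nonempty_iff_ne_empty.mpr hF0
    rw [Ideal.subset_union_prime x₀ x₀ fun i _ _ _ => (X.isoSpec.hom i).isPrime]
    rintro ⟨x, hx, hle⟩
    obtain ⟨hxF, hxG⟩ := Finset.mem_filter.mp hx
    obtain ⟨z, hz, hzx⟩ := ((X.isoSpec.hom x).isPrime.inf_le').mp hle
    obtain ⟨hzF, hzG⟩ := Finset.mem_filter.mp hz
    rw [Set.Finite.mem_toFinset] at hxF hzF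
    have hint : q.appTop.hom.IsIntegral := isIntegral_appTop_of_universallyClosed q
    algebraize [q.appTop.hom]
    rcases hzx.eq_or_lt with heq | hlt
    · refine hzG ?_
      have : X.isoSpec.hom z = X.isoSpec.hom x := PrimeSpectrum.ext heq
      rwa [(X.isoSpec.hom.isOpenEmbedding.injective this)]
    · haveI : (P z).IsPrime := (X.isoSpec.hom z).isPrime
      have hlt' := Ideal.IsIntegral.comap_lt_comap (R := Γ(S, ⊤)) hlt
      refine hlt'.ne ?_
      show (P z).comap q.appTop.hom = (P x).comap q.appTop.hom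
      rw [isoSpec_comap, isoSpec_comap, hFp z hzF, hFp x hxF]
  obtain ⟨a, haI, ha⟩ := Set.not_subset.mp hne
  refine ⟨a, fun x hx => ?_⟩
  rw [mem_basicOpen_iff_isoSpec]
  constructor
  · intro h
    by_contra hG
    have hxmem : x ∈ hF.toFinset.filter fun x => x ∉ G := by simp [hx, hG]
    exact h ((Finset.inf_le (f := P) hxmem : I ≤ P x) haI)
  · intro hG h
    exact ha (Set.mem_biUnion (show x ∈ (↑(hF.toFinset.filter fun x => x ∈ G) : Set X) by
      simp [hx, hG]) h)

theorem exists_splitting_localRing {R : Type u} [CommRing R] (p : Ideal R) [p.IsPrime]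
    {P : Polynomial R} (hP : P.Monic) :
    ∃ (B : Type u) (_ : CommRing B) (_ : Algebra R B) (_ : IsLocalRing B),
      Module.Flat R B ∧ (IsLocalRing.maximalIdeal B).comap (algebraMap R B) = p ∧
      (P.map (algebraMap R B)).Splits := by
  have : Nontrivial R := ⟨0, 1, fun h => Ideal.IsPrime.ne_top (I := p) ‹_›
    ((Ideal.eq_top_iff_one p).mpr (h ▸ p.zero_mem))⟩
  obtain ⟨B, _, _, _, _, _, hB⟩ := hP.exists_splits_map
  obtain ⟨q, hq⟩ := PrimeSpectrum.comap_surjective_of_faithfullyFlat (B := B) ⟨p, ‹_›⟩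
  refine ⟨Localization.AtPrime q.asIdeal, inferInstance, inferInstance, inferInstance, ?_, ?_, ?_⟩
  · exact Module.Flat.trans R B _
  · rw [IsScalarTower.algebraMap_eq R B (Localization.AtPrime q.asIdeal), ← Ideal.comap_comap]
    change Ideal.comap _ (Ideal.under B _) = p
    rw [IsLocalization.AtPrime.under_maximalIdeal (Localization.AtPrime q.asIdeal) q.asIdeal]
    exact congr_arg PrimeSpectrum.asIdeal hq
  · rw [IsScalarTower.algebraMap_eq R B (Localization.AtPrime q.asIdeal), ← Polynomial.map_map]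
    exact hB.map _

theorem mem_basicOpen_map {X Y : Scheme.{u}} (f : X ⟶ Y) (x : X) (r : Γ(Y, ⊤)) :
    x ∈ X.basicOpen (f.appTop r) ↔ f x ∈ Y.basicOpen r := by
  rw [← Scheme.preimage_basicOpen_top]
  rfl

/-- local splitting over a flat local cover -/
theorem exists_flat_split {X S : Scheme.{u}} [IsAffine S] (q : X ⟶ S) [IsIntegralHom q]
    (p : S) (hfin : (q ⁻¹' {p}).Finite) (G : Set X) :
    ∃ (T : Scheme.{u}) (φ : T ⟶ S) (t : T), IsAffine T ∧ Flat φ ∧ φ t = p ∧
      (∀ C : Set T, IsClosed C → C.Nonempty → t ∈ C) ∧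
      ∃ e : Γ(pullback q φ, ⊤), IsIdempotentElem e ∧ ∀ x' : ↥(pullback q φ),
        pullback.snd q φ x' = t → (x' ∈ (pullback q φ).basicOpen e ↔ pullback.fst q φ x' ∈ G) := by
  obtain ⟨a, ha⟩ := exists_separating q p _ hfin (fun x hx => hx) G
  obtain ⟨P, hP, hPa⟩ := isIntegral_appTop_of_universallyClosed q a
  obtain ⟨B, _, _, _, hflat, hcomap, hsplit⟩ :=
    exists_splitting_localRing (S.isoSpec.hom p).asIdeal hP
  let φ : Spec (CommRingCat.of B) ⟶ S :=
    Spec.map (CommRingCat.ofHom (algebraMap Γ(S, ⊤) B)) ≫ S.isoSpec.inv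
  let t : ↥(Spec (CommRingCat.of B)) := IsLocalRing.closedPoint B
  have hφflat : Flat φ := by
    have : Flat (Spec.map (CommRingCat.ofHom (algebraMap Γ(S, ⊤) B))) :=
      (HasRingHomProperty.Spec_iff (P := @Flat)).mpr (RingHom.flat_algebraMap_iff.mpr hflat)
    infer_instance
  have hφt : φ t = p := by
    have h1 : Spec.map (CommRingCat.ofHom (algebraMap Γ(S, ⊤) B)) t = S.isoSpec.hom p :=
      PrimeSpectrum.ext hcomap
    exact (congrArg S.isoSpec.inv h1).trans congr(($(S.isoSpec.hom_inv_id)).base p)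
  refine ⟨_, φ, t, inferInstance, hφflat, hφt, fun C hC ⟨c, hc⟩ => ?_, ?_⟩
  · exact (IsLocalRing.specializes_closedPoint c).mem_closed hC hc
  let X' := pullback q φ
  let σ : B →+* Γ(X', ⊤) :=
    ((Scheme.ΓSpecIso (CommRingCat.of B)).inv ≫ (pullback.snd q φ).appTop).hom
  letI := σ.toAlgebra
  let a' : Γ(X', ⊤) := (pullback.fst q φ).appTop a
  have hσ : σ.comp (algebraMap Γ(S, ⊤) B) =
      (q.appTop ≫ (pullback.fst q φ).appTop).hom := by
    have h1 : q.appTop ≫ (pullback.fst q φ).appTop = φ.appTop ≫ (pullback.snd q φ).appTop := by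
      rw [← Scheme.Hom.comp_appTop, ← Scheme.Hom.comp_appTop, pullback.condition]
    have h2 : φ.appTop = CommRingCat.ofHom (algebraMap Γ(S, ⊤) B) ≫
        (Scheme.ΓSpecIso (CommRingCat.of B)).inv := by
      rw [Scheme.ΓSpecIso_inv_naturality, Scheme.Hom.comp_appTop, isoSpec_inv_appTop']
      rfl
    rw [h1, h2]
    rfl
  have haP : Polynomial.aeval a' (P.map (algebraMap Γ(S, ⊤) B)) = 0 := by
    rw [Polynomial.aeval_def, Polynomial.eval₂_map]
    show Polynomial.eval₂ (σ.comp _) _ P = 0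
    rw [hσ, CommRingCat.hom_comp, show a' = (pullback.fst q φ).appTop.hom a from rfl,
      ← Polynomial.hom_eval₂, hPa, map_zero]
  obtain ⟨e, he, hev⟩ := exists_idempotent a' (hP.map _) hsplit haP
  refine ⟨e, he, fun x' hx' => ?_⟩
  have hmax : ∀ b ∈ IsLocalRing.maximalIdeal B,
      X'.evaluation ⊤ x' (Set.mem_univ x') (algebraMap B Γ(X', ⊤) b) = 0 := fun b hb => by
    rw [Scheme.evaluation_eq_zero_iff_notMem_basicOpen]
    show x' ∉ X'.basicOpen ((pullback.snd q φ).appTop ((Scheme.ΓSpecIso (CommRingCat.of B)).inv b))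
    rw [mem_basicOpen_map, hx']
    intro h
    erw [basicOpen_eq_of_affine] at h
    exact h hb
  have h2 := hev _ (X'.evaluation ⊤ x' (Set.mem_univ x')).hom hmax
  rw [← ha (pullback.fst q φ x') (by
    show q (pullback.fst q φ x') = p
    rw [← Scheme.Hom.comp_apply, pullback.condition, Scheme.Hom.comp_apply, hx', hφt]),
    ← mem_basicOpen_map]
  rw [← not_iff_not, ← Scheme.evaluation_eq_zero_iff_notMem_basicOpen _ _ (Set.mem_univ x' : x' ∈ (⊤ : X'.Opens)),
    ← Scheme.evaluation_eq_zero_iff_notMem_basicOpen _ _ (Set.mem_univ x' : x' ∈ (⊤ : X'.Opens))]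
  exact h2

theorem exists_section_of_notMem {X Y S : Scheme.{u}} [IsAffine S] (π : X ⟶ Y) (g : Y ⟶ S)
    [Surjective π] [IsSeparated g] [IsIntegralHom (π ≫ g)]
    (hfin : ∀ s : S, ((π ≫ g) ⁻¹' {s}).Finite) (Z : Closeds Y) (y : Y) (hy : y ∉ (Z : Set Y)) :
    ∃ f : Γ(Y, ⊤), Disjoint (Y.basicOpen f : Set Y) Z ∧ y ∈ Y.basicOpen f := by
  obtain ⟨T, φ, t, hT, hφ, hφt, hclosed, e, he, hsplit⟩ :=
    exists_flat_split (π ≫ g) (g y) (hfin _) (π ⁻¹' {y})
  have : UniversallyClosed g := .of_comp_surjective π g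
  have : CompactSpace Y := QuasiCompact.compactSpace_of_compactSpace g
  have : QuasiSeparatedSpace Y := quasiSeparatedSpace_of_quasiSeparated g
  have : IsIntegralHom π := .of_comp π g
  let Y' := pullback g φ
  let X' := pullback (π ≫ g) φ
  let qY : Y' ⟶ T := pullback.snd g φ
  let pY : Y' ⟶ Y := pullback.fst g φ
  let π' : X' ⟶ Y' := pullback.lift (pullback.fst _ _ ≫ π) (pullback.snd _ _)
    (by rw [Category.assoc, pullback.condition])
  have hπ'1 : π' ≫ pY = pullback.fst (π ≫ g) φ ≫ π := pullback.lift_fst _ _ _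
  have hπ'2 : π' ≫ qY = pullback.snd (π ≫ g) φ := pullback.lift_snd _ _ _
  have HX : IsPullback (pullback.fst (π ≫ g) φ) π' π pY := by
    refine IsPullback.of_bot ?_ hπ'1.symm (IsPullback.of_hasPullback g φ)
    exact hπ'2 ▸ IsPullback.of_hasPullback (π ≫ g) φ
  have : IsIntegralHom π' := MorphismProperty.of_isPullback HX inferInstance
  have : Surjective π' := MorphismProperty.of_isPullback HX inferInstance
  have : UniversallyClosed qY := MorphismProperty.pullback_snd _ _ inferInstance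
  let D₁ : Set X' := X'.basicOpen e
  let D₀ : Set X' := X'.basicOpen (1 - e)
  have hcov : ∀ x, x ∈ D₁ ∨ x ∈ D₀ := fun x => by
    by_contra h
    push Not at h
    have h1 := (Scheme.evaluation_eq_zero_iff_notMem_basicOpen _ x (Set.mem_univ x) _).mpr h.1
    have h0 := (Scheme.evaluation_eq_zero_iff_notMem_basicOpen _ x (Set.mem_univ x) _).mpr h.2
    rw [map_sub, map_one, h1, sub_zero] at h0
    exact one_ne_zero h0
  have hdisj : ∀ x, x ∈ D₁ → x ∉ D₀ := fun x h1 h0 => by
    have : x ∈ X'.basicOpen (e * (1 - e)) := by rw [Scheme.basicOpen_mul]; exact ⟨h1, h0⟩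
    rw [mul_sub, mul_one, he.eq, sub_self, Scheme.basicOpen_zero] at this
    exact this
  have hD₁ : IsClosed D₁ := by
    rw [show D₁ = D₀ᶜ from Set.ext fun x => ⟨hdisj x, fun h => (hcov x).resolve_right h⟩]
    exact (X'.basicOpen (1 - e)).2.isClosed_compl
  have hD₀ : IsClosed D₀ := by
    rw [show D₀ = D₁ᶜ from Set.ext fun x => ⟨fun h h' => hdisj x h' h, fun h => (hcov x).resolve_left h⟩]
    exact (X'.basicOpen e).2.isClosed_compl
  have hclosedmap : IsClosedMap π' := π'.isClosedMap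
  -- every nonempty closed subset of `Y'` has a point over `t`
  have hpt : ∀ C : Set Y', IsClosed C → C.Nonempty → ∃ c ∈ C, qY c = t := fun C hC hC' =>
    hclosed _ (qY.isClosedMap C hC) (hC'.image _)
  have hover : ∀ x : X', qY (π' x) = t → (x ∈ D₁ ↔ pY (π' x) = y) := fun x hx => by
    rw [← Scheme.Hom.comp_apply, hπ'1]
    exact hsplit x (by rw [← hπ'2]; exact hx)
  have hW : Disjoint (π' '' D₁) (π' '' D₀) := by
    rw [Set.disjoint_left]
    rintro y' ⟨x₁, hx₁, rfl⟩ ⟨x₀, hx₀, hx₀'⟩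
    obtain ⟨c, hc, hct⟩ := hpt (closure {π' x₁}) isClosed_closure ⟨_, subset_closure rfl⟩
    obtain ⟨z₁, hz₁, hz₁'⟩ := (closure_minimal (Set.singleton_subset_iff.mpr
      (Set.mem_image_of_mem π' (subset_closure (Set.mem_singleton x₁))))
      (hclosedmap _ isClosed_closure)) hc
    obtain ⟨z₀, hz₀, hz₀'⟩ := (closure_minimal (Set.singleton_subset_iff.mpr
      (hx₀' ▸ Set.mem_image_of_mem π' (subset_closure (Set.mem_singleton x₀))))
      (hclosedmap _ isClosed_closure)) hc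
    have h1 : z₁ ∈ D₁ := closure_minimal (Set.singleton_subset_iff.mpr hx₁) hD₁ hz₁
    have h0 : z₀ ∈ D₀ := closure_minimal (Set.singleton_subset_iff.mpr hx₀) hD₀ hz₀
    have e1 := (hover z₁ (by rw [hz₁', hct])).mp h1
    exact hdisj z₀ ((hover z₀ (by rw [hz₀', hct])).mpr (by rw [hz₀', ← hz₁', e1])) h0
  have hWc : (π' '' D₁)ᶜ = π' '' D₀ := by
    ext y'
    constructor
    · intro h
      obtain ⟨x, rfl⟩ := π'.surjective y'
      exact ⟨x, (hcov x).resolve_left fun h' => h ⟨x, h', rfl⟩, rfl⟩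
    · exact fun h h' => Set.disjoint_left.mp hW h' h
  obtain ⟨ε, hε, hεW⟩ := exists_idem_of_isClopen (π' '' D₁)
    ⟨hclosedmap _ hD₁, isClosed_compl_iff.mp (hWc ▸ hclosedmap _ hD₀)⟩
  -- a point over `y` and `t`
  obtain ⟨y', hy'1, hy'2⟩ := Scheme.Pullback.exists_preimage_pullback (f := g) (g := φ) y t hφt.symm
  have hy'W : y' ∈ Y'.basicOpen ε := by
    show y' ∈ (Y'.basicOpen ε : Set Y')
    rw [hεW]
    obtain ⟨x, rfl⟩ := π'.surjective y'
    exact ⟨x, (hover x hy'2).mpr hy'1, rfl⟩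
  let ι : (Scheme.IdealSheafData.vanishingIdeal Z).subscheme ⟶ Y :=
    (Scheme.IdealSheafData.vanishingIdeal Z).subschemeι
  have hrange : Set.range ι = (Z : Set Y) := by
    rw [Scheme.IdealSheafData.range_subschemeι, Scheme.IdealSheafData.coe_support_vanishingIdeal]
  have : CompactSpace (Scheme.IdealSheafData.vanishingIdeal Z).subscheme :=
    QuasiCompact.compactSpace_of_compactSpace ι
  have hzero : (pullback.snd ι pY).appTop ε = 0 := by
    have : CompactSpace Y' := by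
      have : CompactSpace T := inferInstance
      exact QuasiCompact.compactSpace_of_compactSpace qY
    have : CompactSpace ↥(pullback ι pY) :=
      QuasiCompact.compactSpace_of_compactSpace (pullback.snd ι pY)
    refine (hε.map (pullback.snd ι pY).appTop.hom).eq_zero_of_isNilpotent ?_
    rw [Scheme.isNilpotent_iff_basicOpen_eq_bot]
    ext w
    refine ⟨fun hw => ?_, fun h => h.elim⟩
    replace hw : pullback.snd ι pY w ∈ (Y'.basicOpen ε : Set Y') := (mem_basicOpen_map _ _ _).mp hw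
    rw [hεW] at hw
    have hne : (π' '' D₁ ∩ pY ⁻¹' (Z : Set Y)).Nonempty :=
      ⟨_, hw, by
        show pY _ ∈ (Z : Set Y)
        rw [← hrange, ← Scheme.Hom.comp_apply, ← pullback.condition]
        exact ⟨_, rfl⟩⟩
    obtain ⟨c, ⟨⟨x, hx, rfl⟩, hcZ⟩, hct⟩ :=
      hpt _ ((hclosedmap _ hD₁).inter (Z.isClosed.preimage pY.continuous)) hne
    exact hy ((hover x hct).mp hx ▸ hcZ)
  obtain ⟨f, hf, hfy⟩ := exists_mem_of_ker ι (IsPullback.of_hasPullback g φ)
    (IsPullback.of_hasPullback ι pY) ε hzero y' hy'W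
  refine ⟨f, ?_, hy'1 ▸ hfy⟩
  rw [Set.disjoint_left]
  intro z hz hzZ
  rw [← hrange] at hzZ
  obtain ⟨w, rfl⟩ := hzZ
  have := (mem_basicOpen_map ι w f).mpr hz
  rw [hf, Scheme.basicOpen_zero] at this
  exact this

theorem isAffine_of_surjective_of_finite_fibres {X Y S : Scheme.{u}} [IsAffine S] (π : X ⟶ Y)
    (g : Y ⟶ S) [Surjective π] [IsSeparated g] [IsIntegralHom (π ≫ g)]
    (hfin : ∀ s : S, ((π ≫ g) ⁻¹' {s}).Finite) : IsAffine Y := by
  have : UniversallyClosed g := .of_comp_surjective π g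
  have : CompactSpace Y := QuasiCompact.compactSpace_of_compactSpace g
  have hc : UniversallyClosed Y.toSpecΓ := by
    have : UniversallyClosed (Y.toSpecΓ ≫ Spec.map g.appTop) := by
      rw [← Scheme.toSpecΓ_naturality, MorphismProperty.cancel_right_of_respectsIso (P := @UniversallyClosed)]
      infer_instance
    exact .of_comp_of_isSeparated _ (Spec.map g.appTop)
  have hsurj : Function.Surjective Y.toSpecΓ := by
    rw [← Set.range_eq_univ, ← Y.toSpecΓ.isClosedMap.isClosed_range.closure_eq]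
    exact Y.toSpecΓ.denseRange.closure_eq
  refine isAffine_of_isAffineOpen_basicOpen {f | IsAffineOpen (Y.basicOpen f)} ?_ fun _ h => h
  by_contra hne
  obtain ⟨M, hM, hle⟩ := Ideal.exists_le_maximal _ hne
  obtain ⟨y, hy⟩ := hsurj ⟨M, hM.isPrime⟩
  obtain ⟨U, hU, hyU, -⟩ := exists_isAffineOpen_mem_and_subset (X := Y) (x := y) (U := ⊤) trivial
  obtain ⟨f, hfd, hfy⟩ := exists_section_of_notMem π g hfin ⟨(U : Set Y)ᶜ, U.2.isClosed_compl⟩ y
    (fun h => h hyU)
  have hfU : Y.basicOpen f ≤ U := fun z hz => not_not.mp (Set.disjoint_left.mp hfd hz)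
  have hfaff : IsAffineOpen (Y.basicOpen f) := by
    have := hU.basicOpen (Y.presheaf.map (homOfLE (le_top : U ≤ ⊤)).op f)
    rw [Scheme.basicOpen_res, inf_eq_right.mpr hfU] at this
    exact this
  have h1 : f ∈ M := hle (Ideal.subset_span hfaff)
  rw [← Scheme.toSpecΓ_preimage_basicOpen] at hfy
  exact (show f ∉ (Y.toSpecΓ y).asIdeal from hfy) (by rw [hy]; exact h1)

theorem isIntegralHom_of_surjective_of_finite_fibres {X Y S : Scheme.{u}} (π : X ⟶ Y)
    (g : Y ⟶ S) [Surjective π] [IsSeparated g] [IsIntegralHom (π ≫ g)]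
    (hfin : ∀ s : S, ((π ≫ g) ⁻¹' {s}).Finite) : IsIntegralHom g := by
  refine IsIntegralHom.iff_universallyClosed_and_isAffineHom.mpr ⟨.of_comp_surjective π g, ⟨fun V hV => ?_⟩⟩
  have : IsAffine V := hV
  have hS : Surjective (π ∣_ (g ⁻¹ᵁ V)) := IsZariskiLocalAtTarget.restrict ‹_› _
  have hg : IsSeparated (g ∣_ V) := IsZariskiLocalAtTarget.restrict ‹_› _
  have hI : IsIntegralHom ((π ∣_ (g ⁻¹ᵁ V)) ≫ (g ∣_ V)) := by
    rw [← morphismRestrict_comp]
    exact IsZariskiLocalAtTarget.restrict ‹_› _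
  refine isAffine_of_surjective_of_finite_fibres (π ∣_ (g ⁻¹ᵁ V)) (g ∣_ V) fun s => ?_
  refine ((hfin s.1).preimage (f := fun x => (π ⁻¹ᵁ (g ⁻¹ᵁ V)).ι x) Subtype.val_injective.injOn).subset ?_
  intro x hx
  show (π ≫ g) ((π ⁻¹ᵁ (g ⁻¹ᵁ V)).ι x) = s.1
  rw [← show ((π ∣_ (g ⁻¹ᵁ V)) ≫ (g ∣_ V)) x = s from hx]
  show _ = V.ι (((π ∣_ (g ⁻¹ᵁ V)) ≫ (g ∣_ V)) x)
  rw [← Scheme.Hom.comp_apply, ← Scheme.Hom.comp_apply, Category.assoc, morphismRestrict_ι,
    morphismRestrict_ι_assoc]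

end Groth.Agent.FinFibImage
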