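import Mathlib.RingTheory.LocalRing.ResidueField.Basic
import Mathlib.RingTheory.AdjoinRoot
import Mathlib.RingTheory.Coprime.Lemmas
import Mathlib.RingTheory.Idempotents
import Mathlib.Algebra.Polynomial.Splits

/-!
# Idempotents from split polynomials over a local ring

If `a` is a root of a split monic polynomial over a local ring `B` inside a `B`-algebra `A`, then
some idempotent of `A` vanishes at exactly the same residue-field points as `a`.
-/

open Polynomial IsLocalRing

universe u v w

namespace Groth.Agent.FinFibImage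

theorem coprime_prod {R : Type u} [CommRing R] {s t : Multiset R}
    (h : ∀ p ∈ s, ∀ q ∈ t, IsCoprime p q) : IsCoprime s.prod t.prod := by
  induction s using Multiset.induction_on with
  | empty => simpa using isCoprime_one_left
  | cons p s ih =>
    rw [Multiset.prod_cons]
    refine IsCoprime.mul_left ?_ (ih fun a ha => h a (Multiset.mem_cons_of_mem ha))
    clear ih
    induction t using Multiset.induction_on with
    | empty => simpa using isCoprime_one_right
    | cons q t iht =>
      rw [Multiset.prod_cons]
      exact IsCoprime.mul_right (h p (Multiset.mem_cons_self _ _) q (Multiset.mem_cons_self _ _))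
        (iht fun a ha b hb => h a ha b (Multiset.mem_cons_of_mem hb))

theorem exists_idempotent {B : Type u} [CommRing B] [IsLocalRing B] {A : Type v} [CommRing A]
    [Algebra B A] (a : A) {P : B[X]} (hP : P.Monic) (hs : P.Splits) (ha : aeval a P = 0) :
    ∃ e : A, IsIdempotentElem e ∧ ∀ (L : Type w) [Field L] (φ : A →+* L),
      (∀ b ∈ maximalIdeal B, φ (algebraMap B A b) = 0) → (φ e = 0 ↔ φ a = 0) := by
  classical
  obtain ⟨m, hm⟩ := splits_iff_exists_multiset.mp hs
  rw [hP.leadingCoeff, C_1, one_mul] at hm
  let P₀ := ((m.filter fun r => r ∈ maximalIdeal B).map fun r => X - C r).prod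
  let P₁ := ((m.filter fun r => r ∉ maximalIdeal B).map fun r => X - C r).prod
  have hP01 : P = P₀ * P₁ := by
    rw [hm, ← Multiset.prod_add, ← Multiset.map_add, Multiset.filter_add_not]
  have hco : IsCoprime P₀ P₁ := by
    suffices ∀ p ∈ (m.filter fun r => r ∈ maximalIdeal B).map (fun r => X - C r),
        ∀ q ∈ (m.filter fun r => r ∉ maximalIdeal B).map (fun r => X - C r), IsCoprime p q from
      coprime_prod this
    intro p hp q hq
    obtain ⟨r, hr, rfl⟩ := Multiset.mem_map.mp hp
    obtain ⟨s, hs', rfl⟩ := Multiset.mem_map.mp hq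
    obtain ⟨-, hr⟩ := Multiset.mem_filter.mp hr
    obtain ⟨-, hs'⟩ := Multiset.mem_filter.mp hs'
    refine isCoprime_X_sub_C_of_isUnit_sub ?_
    refine (notMem_maximalIdeal (R := B)).mp fun h => hs' ?_
    simpa using (maximalIdeal B).sub_mem hr h
  obtain ⟨u, v, huv⟩ := hco
  refine ⟨aeval a (u * P₀), ?_, ?_⟩
  · have h1 : aeval a (u * P₀) = 1 - aeval a (v * P₁) := by
      rw [eq_sub_iff_add_eq, ← map_add, huv, map_one]
    have h2 : aeval a (u * P₀) * aeval a (v * P₁) = 0 := by
      rw [← map_mul, show u * P₀ * (v * P₁) = (u * v) * P by rw [hP01]; ring, map_mul, ha, mul_zero]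
    show _ * _ = _
    conv_lhs => arg 2; rw [h1]
    rw [mul_sub, mul_one, h2, sub_zero]
  intro L _ φ hφ
  have hu : ∀ r : B, r ∉ maximalIdeal B → φ (algebraMap B A r) ≠ 0 := fun r hr =>
    (((notMem_maximalIdeal (R := B)).mp hr).map (φ.comp (algebraMap B A))).ne_zero
  have key : φ (aeval a P₀) * φ (aeval a P₁) = 0 := by
    rw [← map_mul φ, ← map_mul, ← hP01, ha, map_zero]
  have e0 : φ (aeval a P₀) = φ a ^ (m.filter fun r => r ∈ maximalIdeal B).card := by
    simp only [P₀, map_multiset_prod, Multiset.map_map]
    rw [Multiset.map_congr rfl (g := fun _ => φ a) fun r hr => by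
      simp [hφ r (Multiset.mem_filter.mp hr).2], Multiset.map_const', Multiset.prod_replicate]
  constructor
  · intro he
    by_contra hne
    have h1 : φ (aeval a P₁) = 0 :=
      (mul_eq_zero.mp key).resolve_left (by rw [e0]; exact pow_ne_zero _ hne)
    have := congr_arg (fun p => φ (aeval a p)) huv
    simp only [map_mul, map_add, map_one, h1, mul_zero, add_zero] at this
    rw [map_mul, map_mul] at he
    rw [he] at this
    exact zero_ne_one this
  · intro h0
    have h1 : φ (aeval a P₁) ≠ 0 := by
      simp only [P₁, map_multiset_prod, Multiset.map_map]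
      refine Multiset.prod_ne_zero fun hz => ?_
      obtain ⟨r, hr, hr0⟩ := Multiset.mem_map.mp hz
      simp [h0] at hr0
      exact hu r (Multiset.mem_filter.mp hr).2 hr0
    rw [map_mul, map_mul, (mul_eq_zero.mp key).resolve_right h1, mul_zero]

end Groth.Agent.FinFibImage
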